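/-
The link of two non-commuting members of a class of 3-transpositions: spectral interval for the
number of common partners, and the divisibility conditions on the global parameters.
-/
import Cfsg.Agent.H65.Fischer.Levels

set_option autoImplicit false

namespace H88.Fischer

open Cfsg H99 H65.Fischer

variable {G : Type*} [Group G] [Finite G]

/-- The spectral interval for a set of vertices inducing a regular subgraph. -/
theorem regular_bounds {E : Set G} {n k l m : ℕ} (h : IsSRG E n k l m) (hn : 0 < n) {r s : ℝ}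
    (hsum : r + s = (l : ℝ) - m) (hprod : r * s = (m : ℝ) - k) (hrs : s < r) {S : Set G}
    (hS : S ⊆ E) (hne : S.Nonempty) {v : ℕ} (hv : ∀ x ∈ S, (S ∩ perp E x).ncard = v) :
    (n : ℝ) * (v - r) ≤ ((k : ℝ) - r) * S.ncard ∧ ((k : ℝ) - s) * S.ncard ≤ (n : ℝ) * (v - s) := by
  have hc : (0 : ℝ) < S.ncard := Nat.cast_pos.2 ((Set.ncard_pos (Set.toFinite _)).2 hne)
  have hn' : (0 : ℝ) < n := Nat.cast_pos.2 hn
  have key : ∀ r s : ℝ, r + s = (l : ℝ) - m → r * s = (m : ℝ) - k →
      0 ≤ (s - r) * ((n : ℝ) * (v - r) - ((k : ℝ) - r) * S.ncard) := by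
    intro r s h1 h2
    have hq := (h.quad hn h1 h2 S ∅ hS (Set.empty_subset _) (Set.disjoint_empty _) 1 0 v 0 0 0
      hv (fun a _ => by simp) (fun a ha => absurd ha (Set.notMem_empty a))
      (fun a ha => absurd ha (Set.notMem_empty a))).1
    simp only [Set.ncard_empty, Nat.cast_zero, mul_zero, add_zero, one_mul, one_pow,
      zero_mul] at hq
    have e : (s - r) * ((S.ncard : ℝ) * v - r * S.ncard - ((k : ℝ) - r) / n * (S.ncard : ℝ) ^ 2) =
        (S.ncard : ℝ) / n * ((s - r) * ((n : ℝ) * (v - r) - ((k : ℝ) - r) * S.ncard)) := by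
      field_simp
    rw [e] at hq
    exact nonneg_of_mul_nonneg_right (by simpa [mul_comm] using hq) (div_pos hc hn')
  constructor
  · have := key r s hsum hprod
    nlinarith
  · have := key s r (by rw [add_comm]; exact hsum) (by rw [mul_comm]; exact hprod)
    nlinarith

/-- The same interval as one inequality between integers. -/
theorem regular_quad {E : Set G} {n k l m : ℕ} (h : IsSRG E n k l m) (hn : 0 < n)
    (hdisc : 0 < ((l : ℤ) - m) ^ 2 + 4 * ((k : ℤ) - m)) {S : Set G} (hS : S ⊆ E)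
    (hne : S.Nonempty) {v : ℕ} (hv : ∀ x ∈ S, (S ∩ perp E x).ncard = v) :
    ((n : ℤ) * v - k * S.ncard) ^ 2 -
        ((l : ℤ) - m) * ((n : ℤ) * v - k * S.ncard) * ((n : ℤ) - S.ncard) +
        ((m : ℤ) - k) * ((n : ℤ) - S.ncard) ^ 2 ≤ 0 := by
  set Δ : ℤ := ((l : ℤ) - m) ^ 2 + 4 * ((k : ℤ) - m) with hΔ
  have hΔ0 : (0 : ℝ) < (Δ : ℝ) := Int.cast_pos.2 hdisc
  set q := Real.sqrt (Δ : ℝ) with hq
  have hq0 : 0 < q := Real.sqrt_pos.2 hΔ0
  have hqe : q * q = ((l : ℝ) - m) ^ 2 + 4 * ((k : ℝ) - m) := by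
    rw [hq, Real.mul_self_sqrt hΔ0.le, hΔ]; push_cast; ring
  set r : ℝ := ((l : ℝ) - m + q) / 2 with hr
  set s : ℝ := ((l : ℝ) - m - q) / 2 with hs
  have hsum : r + s = (l : ℝ) - m := by rw [hr, hs]; ring
  have hprod : r * s = (m : ℝ) - k := by rw [hr, hs]; linear_combination (-1 / 4 : ℝ) * hqe
  obtain ⟨h1, h2⟩ := regular_bounds h hn hsum hprod (by rw [hr, hs]; linarith) hS hne hv
  set A : ℝ := (n : ℝ) * v - k * S.ncard with hA
  set B : ℝ := (n : ℝ) - S.ncard with hB
  have h1' : A - r * B ≤ 0 := by rw [hA, hB]; linarith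
  have h2' : 0 ≤ A - s * B := by rw [hA, hB]; linarith
  have h3 : A ^ 2 - ((l : ℝ) - m) * A * B + ((m : ℝ) - k) * B ^ 2 = (A - r * B) * (A - s * B) := by
    rw [← hsum, ← hprod]; ring
  have h4 : A ^ 2 - ((l : ℝ) - m) * A * B + ((m : ℝ) - k) * B ^ 2 ≤ 0 :=
    h3 ▸ mul_nonpos_of_nonpos_of_nonneg h1' h2'
  rw [hA, hB] at h4
  exact_mod_cast h4

variable {D : Set G} {k l c e n m : ℕ}

/-- What the counting needs: strongly regular local commuting graphs. -/
structure Local (D : Set G) (k l c e : ℕ) : Prop where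
  cls : IsThreeTranspositionClass D
  prim : IsPrimitiveUnderConj D
  srg : ∀ d ∈ D, IsSRG (perp D d) k l c e
  lk : l + 1 < k

/-- The standing hypotheses give the local ones. -/
theorem local_of_setting (h : Setting D k l c e) : Local D k l c e :=
  ⟨h.cls, h.prim, fun d hd => (h.loc d hd).srg, h.lk⟩

/-- One member suffices. -/
theorem local_of_perp (hcl : IsThreeTranspositionClass D) (hp : IsPrimitiveUnderConj D) {d : G}
    (hd : d ∈ D) (hs : IsSRG (perp D d) k l c e) (hlk : l + 1 < k) : Local D k l c e := by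
  refine ⟨hcl, hp, fun s hsD => ?_, hlk⟩
  obtain ⟨g, rfl⟩ := class_isConj hcl hd hsD
  have hconj : ∀ g : G, ∀ d ∈ D, g * d * g⁻¹ ∈ D := fun g z hz => class_conj_mem hcl g hz
  refine srg_transfer (fun y _ => g⁻¹ * y * g) (fun y hy => ?_) (fun z hz => ?_)
    (fun x _ x' _ he => by simpa using he) (fun x _ x' _ => ?_) hs
  · rw [← conj_image_perp hconj] at hy
    obtain ⟨z, hz, rfl⟩ := hy
    simpa [mul_assoc] using hz
  · exact ⟨g * z * g⁻¹, perp_conj hconj g hz, by group⟩
  · rw [← conj_commute_iff g⁻¹ x x', inv_inv]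

/-- From the group one step down. -/
theorem local_of_down (hcl : IsThreeTranspositionClass D) (hp : IsPrimitiveUnderConj D) {d : G}
    (hd : d ∈ D) (hdesc : H5.TT.Fac.Desc D d) (hs : IsSRG (H5.TT.Fac.qD D d) k l c e)
    (hlk : l + 1 < k) : Local D k l c e := by
  refine local_of_perp hcl hp hd (srg_transfer (fun x hx => H5.TT.Fac.im hx)
    (fun x hx => H5.TT.Fac.im_mem hx) ?_ ?_ ?_ hs) hlk
  · intro y hy
    obtain ⟨x, hx, rfl⟩ := H5.TT.Fac.exists_of_mem hy
    exact ⟨x, hx, rfl⟩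
  · exact fun x hx x' hx' he => H5.TT.Fac.im_inj hdesc hx hx' he
  · exact fun x hx x' hx' => H5.TT.Fac.im_commute hdesc hx hx'

namespace Local

lemma conj (h : Local D k l c e) : ∀ g : G, ∀ d ∈ D, g * d * g⁻¹ ∈ D :=
  fun g _ hd => class_conj_mem h.cls g hd

lemma tt (h : Local D k l c e) : IsThreeTranspositionSet D := h.cls.1

lemma deg (h : Local D k l c e) {d : G} (hd : d ∈ D) : (perp D d).ncard = k := (h.srg d hd).card

lemma adjCount (h : Local D k l c e) {d a : G} (hd : d ∈ D) (ha : a ∈ perp D d) :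
    (perp D d ∩ perp D a).ncard = l := by
  rw [← perp_perp]; exact (h.srg d hd).deg a ha

lemma wide (h : Local D k l c e) : ∃ a ∈ D, ∃ b ∈ D, a ≠ b ∧ Commute a b := by
  obtain ⟨d, hd, -⟩ := h.cls.2.1
  obtain ⟨a, ha⟩ := Set.nonempty_of_ncard_ne_zero (s := perp D d)
    (by have := h.lk; rw [h.deg hd]; omega)
  exact ⟨d, hd, a, ha.1, fun e => ha.2.1 e.symm, ha.2.2⟩

lemma exists_noncomm (h : Local D k l c e) : ∃ x ∈ D, ∃ y ∈ D, ¬ Commute x y := by
  obtain ⟨d, hd, -⟩ := h.cls.2.1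
  obtain ⟨a, ha⟩ := Set.nonempty_of_ncard_ne_zero (s := perp D d)
    (by have := h.lk; rw [h.deg hd]; omega)
  by_contra hn
  push Not at hn
  have hsub : perp D d \ {a} ⊆ perp D d ∩ perp D a := fun y hy =>
    ⟨hy.1, hy.1.1, hy.2, hn a ha.1 y hy.1.1⟩
  have h1 := Set.ncard_le_ncard hsub (Set.toFinite _)
  rw [h.adjCount hd ha] at h1
  have h2 := Set.ncard_sdiff_singleton_add_one ha (Set.toFinite _)
  rw [h.deg hd] at h2
  have := h.lk
  omega

lemma sdeg (h : Local D k l c e) {d x a : G} (hd : d ∈ D) (hx : x ∈ D) (hdx : ¬ Commute d x)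
    (ha : a ∈ perp D d ∩ perp D x) : (perp D d ∩ perp D x ∩ perp D a).ncard = e := by
  rw [← (h.srg a ha.1.1).nonadj d (perp_mem_symm hd ha.1) x (perp_mem_symm hx ha.2) hdx,
    perp_perp, perp_perp]
  congr 1
  ext y
  simp only [Set.mem_inter_iff]
  tauto

/-- Two non-commuting pairs are conjugate, so their common neighbour counts agree. -/
lemma mu_const (h : Local D k l c e) {d x d' x' : G} (hd : d ∈ D) (hx : x ∈ D)
    (hdx : ¬ Commute d x) (hd' : d' ∈ D) (hx' : x' ∈ D) (hdx' : ¬ Commute d' x') :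
    (perp D d ∩ perp D x).ncard = (perp D d' ∩ perp D x').ncard := by
  obtain ⟨g, rfl⟩ := class_isConj h.cls hd hd'
  have hy : g * x * g⁻¹ ∈ D := h.conj g x hx
  obtain ⟨u, hu, rfl⟩ := trans_on_noncommuting h.cls h.prim h.wide hd' hy
    (fun hc => hdx ((conj_commute_iff g d x).1 hc)) hx' hdx'
  have hud : u * (g * d * g⁻¹) * u⁻¹ = g * d * g⁻¹ := by
    rw [(perpIns_commute hu).eq, mul_inv_cancel_right]
  rw [← hud, show u * (g * d * g⁻¹) * u⁻¹ = (u * g) * d * (u * g)⁻¹ by group,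
    show u * (g * x * g⁻¹) * u⁻¹ = (u * g) * x * (u * g)⁻¹ by group,
    ← conj_image_perp h.conj, ← conj_image_perp h.conj]
  have hinj : Function.Injective fun y => (u * g) * y * (u * g)⁻¹ := fun p q hpq => by simpa using hpq
  rw [← Set.image_inter hinj, Set.ncard_image_of_injective _ hinj]

/-- The commuting graph is strongly regular. -/
lemma exists_srg (h : Local D k l c e) :
    ∃ n m, IsSRG D n k l m ∧ 0 < m ∧ k * (k - l - 1) = (n - k - 1) * m ∧ k < n := by
  classical
  obtain ⟨x, hx, y, hy, hxy⟩ := h.exists_noncomm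
  have hsrg : IsSRG D D.ncard k l (perp D x ∩ perp D y).ncard :=
    ⟨rfl, fun d hd => h.deg hd,
      fun d hd a ha hne hc => h.adjCount hd ⟨ha, fun e => hne e.symm, hc⟩,
      fun d hd a ha hc => h.mu_const hd ha hc hx hy hxy⟩
  letI := Fintype.ofFinite D
  have hpos : 0 < D.ncard := (Set.ncard_pos (Set.toFinite _)).2 ⟨x, hx⟩
  have hpe := SimpleGraph.IsSRGWith.param_eq (graphOn D) hsrg.isSRGWith hpos
  refine ⟨_, _, hsrg, ?_, hpe, ?_⟩
  · by_contra h0
    rw [Nat.eq_zero_of_not_pos h0, mul_zero] at hpe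
    have := h.lk
    rcases Nat.mul_eq_zero.1 hpe with h1 | h1 <;> omega
  · have hlt : perp D x ⊂ D := Set.ssubset_iff_subset_ne.2
      ⟨fun _ hz => hz.1, fun he => (he.symm ▸ hy : y ∈ perp D x).2.2 |> hxy⟩
    have := Set.ncard_lt_ncard hlt (Set.toFinite _)
    rwa [h.deg hx] at this

end Local

/-- The link of `d` and `x` is invariant under conjugation by its members. -/
theorem link_conj (h : Local D k l c e) {d x y z : G} (hy : y ∈ perp D d ∩ perp D x)
    (hz : z ∈ perp D d ∩ perp D x) : y * z * y⁻¹ ∈ perp D d ∩ perp D x := by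
  have h1 := perp_conj h.conj y hz.1
  have h2 := perp_conj h.conj y hz.2
  rw [show y * d * y⁻¹ = d by rw [hy.1.2.2.symm.eq, mul_inv_cancel_right]] at h1
  rw [show y * x * y⁻¹ = x by rw [hy.2.2.2.symm.eq, mul_inv_cancel_right]] at h2
  exact ⟨h1, h2⟩

/-- The link only depends on the line through `d` and `x`. -/
theorem link_conj_eq (h : Local D k l c e) {d x : G} (hd : d ∈ D) :
    perp D d ∩ perp D (d * x * d) = perp D d ∩ perp D x := by
  have hdd := tt_mul_self h.tt hd
  have hdi := tt_inv h.tt hd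
  have key : ∀ x y : G, y ∈ perp D d → y ∈ perp D x → y ∈ perp D (d * x * d) := by
    intro x y h1 h2
    have := perp_conj h.conj d h2
    rw [show d * y * d⁻¹ = y by rw [h1.2.2.eq, mul_inv_cancel_right], hdi] at this
    exact this
  ext y
  constructor
  · rintro ⟨h1, h2⟩
    refine ⟨h1, ?_⟩
    have := key _ y h1 h2
    rwa [show d * (d * x * d) * d = d * d * x * (d * d) by group, hdd, one_mul, mul_one] at this
  · exact fun h' => ⟨h'.1, key x y h'.1 h'.2⟩

/-- The valency of the link. -/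
theorem link_deg (h : Local D k l c e) {d x : G} (hd : d ∈ D) (hx : x ∈ D)
    (hdx : ¬ Commute d x) {a : G} (ha : a ∈ perp D d ∩ perp D x) :
    ((perp D d ∩ perp D x) ∩ perp (perp D x) a).ncard = e := by
  rw [perp_perp, ← h.sdeg hd hx hdx ha]
  congr 1
  ext z
  simp only [Set.mem_inter_iff]
  tauto

/-- A member has a non-commuting pair of partners. -/
theorem exists_nonadj (h : Local D k l c e) {x : G} (hx : x ∈ D) :
    ∃ a ∈ perp D x, ∃ b ∈ perp D x, ¬ Commute a b := by
  obtain ⟨a, ha⟩ := Set.nonempty_of_ncard_ne_zero (s := perp D x)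
    (by have := h.lk; rw [h.deg hx]; omega)
  by_contra hn
  push Not at hn
  have hsub : perp D x \ {a} ⊆ perp D x ∩ perp D a := fun y hy =>
    ⟨hy.1, hy.1.1, hy.2, hn a ha y hy.1⟩
  have h1 := Set.ncard_le_ncard hsub (Set.toFinite _)
  rw [h.adjCount hx ha] at h1
  have h2 := Set.ncard_sdiff_singleton_add_one ha (Set.toFinite _)
  rw [h.deg hx] at h2
  have := h.lk
  omega

theorem e_le (h : Local D k l c e) : e ≤ l := by
  obtain ⟨x, hx, -⟩ := h.cls.2.1
  obtain ⟨a, ha, b, hb, hab⟩ := exists_nonadj h hx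
  rw [← (h.srg x hx).deg a ha, ← (h.srg x hx).nonadj a ha b hb hab]
  exact Set.ncard_le_ncard Set.inter_subset_left (Set.toFinite _)

theorem c_lt (h : Local D k l c e) (hl : 0 < l) : c < l := by
  obtain ⟨x, hx, -⟩ := h.cls.2.1
  obtain ⟨a, ha, -⟩ := exists_nonadj h hx
  obtain ⟨b, hb⟩ := Set.nonempty_of_ncard_ne_zero (s := perp (perp D x) a)
    (by rw [(h.srg x hx).deg a ha]; omega)
  rw [← (h.srg x hx).deg a ha,
    ← (h.srg x hx).adj a ha b hb.1 (fun e => hb.2.1 e.symm) hb.2.2]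
  exact Set.ncard_lt_ncard (Set.ssubset_iff_of_subset Set.inter_subset_left |>.2
    ⟨b, hb, fun h' => h'.2.2.1 rfl⟩) (Set.toFinite _)

theorem m_pos (h : Local D k l c e) (hs : IsSRG D n k l m) : 0 < m := by
  obtain ⟨n', m', hs', hm', -, -⟩ := h.exists_srg
  obtain ⟨x, hx, y, hy, hxy⟩ := h.exists_noncomm
  rw [← hs.nonadj x hx y hy hxy, hs'.nonadj x hx y hy hxy]
  exact hm'

theorem m_le (h : Local D k l c e) (hs : IsSRG D n k l m) : m ≤ k := by
  obtain ⟨x, hx, y, hy, hxy⟩ := h.exists_noncomm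
  rw [← hs.nonadj x hx y hy hxy, ← hs.deg x hx]
  exact Set.ncard_le_ncard Set.inter_subset_left (Set.toFinite _)

/-- The spectral interval for the common partner count. -/
theorem link_bounds (h : Local D k l c e) (hs : IsSRG D n k l m) {r s : ℝ}
    (hsum : r + s = (c : ℝ) - e) (hprod : r * s = (e : ℝ) - l) (hrs : s < r) :
    (k : ℝ) * (e - r) ≤ ((l : ℝ) - r) * m ∧ ((l : ℝ) - s) * m ≤ (k : ℝ) * (e - s) := by
  obtain ⟨d, hd, x, hx, hdx⟩ := h.exists_noncomm
  have hm := hs.nonadj d hd x hx hdx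
  have := regular_bounds (h.srg x hx) (by have := h.lk; omega) hsum hprod hrs
    (S := perp D d ∩ perp D x) Set.inter_subset_right
    (Set.nonempty_of_ncard_ne_zero (by rw [hm]; exact (m_pos h hs).ne'))
    (fun a ha => link_deg h hd hx hdx ha)
  rwa [hm] at this

/-- The spectral interval for the common partner count, between integers. -/
theorem link_quad (h : Local D k l c e) (hs : IsSRG D n k l m) :
    ((k : ℤ) * e - l * m) ^ 2 - ((c : ℤ) - e) * ((k : ℤ) * e - l * m) * ((k : ℤ) - m) +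
      ((e : ℤ) - l) * ((k : ℤ) - m) ^ 2 ≤ 0 := by
  rcases Nat.eq_zero_or_pos l with rfl | hl
  · obtain rfl : e = 0 := Nat.le_zero.1 (e_le h)
    simp
  obtain ⟨d, hd, x, hx, hdx⟩ := h.exists_noncomm
  have hm := hs.nonadj d hd x hx hdx
  have hel := e_le h
  have hdisc : 0 < ((c : ℤ) - e) ^ 2 + 4 * ((l : ℤ) - e) := by
    rcases lt_or_eq_of_le hel with hlt | rfl
    · have := sq_nonneg ((c : ℤ) - e)
      omega
    · have := c_lt h hl
      have : ((c : ℤ) - e) ≠ 0 := by omega
      have := sq_pos_of_ne_zero this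
      omega
  have := regular_quad (h.srg x hx) (by have := h.lk; omega) hdisc
    (S := perp D d ∩ perp D x) Set.inter_subset_right
    (Set.nonempty_of_ncard_ne_zero (by rw [hm]; exact (m_pos h hs).ne'))
    (fun a ha => link_deg h hd hx hdx ha)
  rwa [hm] at this

/-- The non-partners of a member come in pairs. -/
theorem two_dvd (h : Local D k l c e) (hs : IsSRG D n k l m) : 2 ∣ n - k - 1 := by
  classical
  letI := Fintype.ofFinite G
  obtain ⟨d, hd, -⟩ := h.cls.2.1
  have hdd := tt_mul_self h.tt hd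
  have hdi := tt_inv h.tt hd
  set T : Finset G := Finset.univ.filter fun y => y ∈ D ∧ ¬ Commute d y with hT
  have hcard : T.card = n - k - 1 := by
    have hset : (T : Set G) = D \ insert d (perp D d) := by
      ext y
      simp only [hT, Finset.coe_filter, Finset.mem_univ, true_and, Set.mem_ofPred_eq,
        Set.mem_sdiff, Set.mem_insert_iff]
      refine ⟨fun hy => ⟨hy.1, ?_⟩, fun hy => ⟨hy.1, fun hc => hy.2 ?_⟩⟩
      · rintro (rfl | h1)
        · exact hy.2 (Commute.refl _)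
        · exact hy.2 h1.2.2
      · by_cases he : y = d
        · exact Or.inl he
        · exact Or.inr ⟨hy.1, he, hc⟩
    rw [← Set.ncard_coe_finset, hset, Set.ncard_sdiff (Set.insert_subset hd fun _ hy => hy.1)
      (Set.toFinite _), Set.ncard_insert_of_notMem (fun hy => hy.2.1 rfl) (Set.toFinite _),
      hs.card, hs.deg d hd]
    omega
  have hz : ∑ _y ∈ T, (1 : ZMod 2) = 0 := by
    refine Finset.sum_involution (fun y _ => d * y * d) (fun _ _ => by decide) ?_ ?_ ?_
    · intro y hy _ heq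
      refine (Finset.mem_filter.1 hy).2.2 ?_
      show d * y = y * d
      calc d * y = d * y * (d * d) := by rw [hdd, mul_one]
        _ = d * y * d * d := by group
        _ = y * d := by rw [heq]
    · intro y hy
      obtain ⟨-, hyD, hyc⟩ := Finset.mem_filter.1 hy
      have hmem : d * y * d ∈ D := by simpa [hdi] using h.conj d y hyD
      refine Finset.mem_filter.2 ⟨Finset.mem_univ _, hmem, fun hc => hyc ?_⟩
      show d * y = y * d
      calc d * y = d * y * d * d := by rw [mul_assoc _ d d, hdd, mul_one]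
        _ = d * (d * y * d) := hc.eq.symm
        _ = y * d := by rw [← mul_assoc, ← mul_assoc, hdd, one_mul]
    · intro y _
      show d * (d * y * d) * d = y
      rw [show d * (d * y * d) * d = d * d * y * (d * d) by group, hdd, one_mul, mul_one]
  rw [Finset.sum_const, nsmul_eq_mul, mul_one, ZMod.natCast_eq_zero_iff_even, hcard] at hz
  exact hz.two_dvd

/-- The discriminant is a square unless the trace term vanishes. -/
theorem disc_square (h : Local D k l c e) (hs : IsSRG D n k l m) :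
    2 * (k : ℤ) + ((l : ℤ) - m) * ((n : ℤ) - 1) = 0 ∨
      IsSquare (((l : ℤ) - m) ^ 2 + 4 * ((k : ℤ) - m)) := by
  classical
  rw [or_iff_not_imp_left]
  intro hT
  have hmk := m_le h hs
  have hlk := h.lk
  obtain ⟨d, hd, -⟩ := h.cls.2.1
  letI := Fintype.ofFinite D
  have hdisc : 0 < ((l : ℤ) - m) ^ 2 + 4 * ((k : ℤ) - m) := by
    rcases lt_or_eq_of_le hmk with hlt | rfl
    · have := sq_nonneg ((l : ℤ) - m)
      omega
    · have : ((l : ℤ) - m) ≠ 0 := by omega
      have := sq_pos_of_ne_zero this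
      omega
  obtain ⟨x, hx⟩ := srg_square (graphOn D) hs.isSRGWith
    (hs.card ▸ (Set.ncard_pos (Set.toFinite _)).2 ⟨d, hd⟩) hdisc
  rw [add_comm] at hx
  set T := 2 * (k : ℤ) + ((l : ℤ) - m) * ((n : ℤ) - 1) with hTdef
  set Δ := ((l : ℤ) - m) ^ 2 + 4 * ((k : ℤ) - m) with hΔ
  have hx0 : x ≠ 0 := fun h0 => hT (by simpa [h0] using hx)
  obtain ⟨w, hw⟩ : x ∣ T :=
    (Int.pow_dvd_pow_iff (n := 2) (by norm_num)).1 ⟨Δ, by rw [pow_two, pow_two, hx, mul_comm]⟩
  refine ⟨w, mul_right_cancel₀ (mul_ne_zero hx0 hx0) ?_⟩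
  rw [← hx, hw]; ring

/-- The arithmetic conditions on the parameters, with `q` the number of non-partners. -/
theorem exists_params (h : Local D k l c e) :
    ∃ n m q, IsSRG D n k l m ∧ n = k + 1 + q ∧ 0 < m ∧ m ≤ k ∧ k * (k - l - 1) = q * m ∧
      2 ∣ q ∧ 3 ∣ n * q ∧
      (2 * (k : ℤ) + ((l : ℤ) - m) * ((n : ℤ) - 1) = 0 ∨
        IsSquare (((l : ℤ) - m) ^ 2 + 4 * ((k : ℤ) - m))) ∧
      ((k : ℤ) * e - l * m) ^ 2 - ((c : ℤ) - e) * ((k : ℤ) * e - l * m) * ((k : ℤ) - m) +
        ((e : ℤ) - l) * ((k : ℤ) - m) ^ 2 ≤ 0 := by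
  obtain ⟨n, m, hs, hm, hpe, hkn⟩ := h.exists_srg
  refine ⟨n, m, n - k - 1, hs, by omega, hm, m_le h hs, hpe, two_dvd h hs, ?_, disc_square h hs,
    link_quad h hs⟩
  rw [show n - k - 1 = n - 1 - k by omega]
  exact hs.three_dvd h.tt h.conj

end H88.Fischer
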