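/-
A test on the parameters, and the two five-dimensional reflection levels.
-/
import Cfsg.Agent.H88.Fischer.M2

set_option autoImplicit false

namespace H88.Fischer

open Cfsg H99 H65.Fischer

/-- The conditions of `exists_params` as a computation. -/
def mchk (k l c e m : ℕ) : Bool :=
  let p := k * (k - l - 1)
  let q := p / m
  let A : Int := (k : Int) * e - (l : Int) * m
  let B : Int := (k : Int) - m
  let T : Int := 2 * (k : Int) + ((l : Int) - m) * ((k : Int) + q)
  let Δ : Int := ((l : Int) - m) * ((l : Int) - m) + 4 * ((k : Int) - m)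
  (p % m == 0) && (q % 2 == 0) && ((k + 1 + q) * q % 3 == 0) &&
    decide (A * A - ((c : Int) - e) * A * B + ((e : Int) - l) * (B * B) ≤ 0) &&
    (decide (T = 0) || Nat.sqrt Δ.natAbs * Nat.sqrt Δ.natAbs == Δ.natAbs)

variable {G : Type*} [Group G] [Finite G] {D : Set G} {k l c e n m : ℕ}

/-- The parameters pass the test. -/
theorem mchk_true (h : Local D k l c e) (hs : IsSRG D n k l m) :
    mchk k l c e m = true ∧ 0 < m ∧ m ≤ k ∧ n = k + 1 + k * (k - l - 1) / m := by
  obtain ⟨n', m', q, hs', hn, hm, hmk, hq, h2, h3, hsq, hquad⟩ := exists_params h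
  obtain rfl : m = m' := by
    obtain ⟨x, hx, y, hy, hxy⟩ := h.exists_noncomm
    rw [← hs.nonadj x hx y hy hxy, hs'.nonadj x hx y hy hxy]
  obtain rfl : n = n' := by rw [← hs.card, hs'.card]
  have hdiv : k * (k - l - 1) / m = q := by rw [hq, Nat.mul_div_cancel _ hm]
  refine ⟨?_, hm, hmk, by rw [hdiv]; exact hn⟩
  simp only [mchk, hdiv, Bool.and_eq_true, Bool.or_eq_true, beq_iff_eq, decide_eq_true_eq]
  refine ⟨⟨⟨⟨?_, Nat.mod_eq_zero_of_dvd h2⟩, ?_⟩, ?_⟩, ?_⟩
  · rw [hq]; exact Nat.mul_mod_left _ _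
  · rw [← hn]; exact Nat.mod_eq_zero_of_dvd h3
  · simpa only [pow_two] using hquad
  · rw [show (k : ℤ) + q = (n : ℤ) - 1 by omega]
    refine hsq.imp id fun hs2 => ?_
    obtain ⟨w, hw⟩ := hs2
    rw [pow_two] at hw
    rw [hw, Int.natAbs_mul, Nat.sqrt_eq w.natAbs]

theorem mchk_45 : (List.range 46).all
    (fun m => !mchk 45 12 3 3 m || m == 0 || m == 10 || m == 18) = true := by
  decide +kernel

theorem mchk_36 : (List.range 37).all (fun m => !mchk 36 15 6 6 m || m == 0 || m == 9) = true := by
  decide +kernel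

/-- The common partner counts over forty-five points. -/
theorem mu_fortyfive (h : Local D 45 12 3 3) (hs : IsSRG D n 45 12 m) : m = 10 ∨ m = 18 := by
  obtain ⟨hc, hm, hmk, -⟩ := mchk_true h hs
  have := List.all_eq_true.1 mchk_45 m (List.mem_range.2 (by omega))
  simp [hc, hm.ne'] at this
  exact this

/-- The common partner count over thirty-six points. -/
theorem mu_thirtysix (h : Local D 36 15 6 6) (hs : IsSRG D n 36 15 m) : m = 9 := by
  obtain ⟨hc, hm, hmk, -⟩ := mchk_true h hs
  have := List.all_eq_true.1 mchk_36 m (List.mem_range.2 (by omega))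
  simp [hc, hm.ne'] at this
  exact this

end H88.Fischer
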