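/-
Nothing lies over a group of type M(24).
-/
import Cfsg.Agent.H71.Fischer.Defs
import Cfsg.Agent.H88.Fischer.M2Five
import Cfsg.Agent.H65.Fischer.Nested

set_option autoImplicit false

namespace H88.Fischer

open Cfsg H99 H65.Fischer

universe u

theorem mchk_m24 : (List.range 3791).all
    (fun i => !mchk 306936 31671 3510 3240 (28313 + i)) = true := by
  decide +kernel

variable {G : Type*} [Group G] [Finite G] {D : Set G}

/-- No strongly regular class has these local parameters. -/
theorem not_local_m24 (h : Local D 306936 31671 3510 3240) : False := by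
  obtain ⟨n, m, hs, -⟩ := h.exists_srg
  obtain ⟨hc, -, -, -⟩ := mchk_true h hs
  have hq := link_quad h hs
  push_cast at hq
  have h1 : (28313 : ℤ) ≤ m := by
    by_contra h0
    nlinarith
  have h2 : (m : ℤ) ≤ 32103 := by
    by_contra h0
    nlinarith
  have := List.all_eq_true.1 mchk_m24 (m - 28313) (List.mem_range.2 (by omega))
  rw [show 28313 + (m - 28313) = m by omega, hc] at this
  simp at this

/-- The step over type M(24) does not occur. -/
theorem noM24 : H71.Fischer.NoM24Stmt.{u} := fun s h =>
  not_local_m24 (local_of_down s.cls s.prim s.mem s.desc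
    (m24_good (class_toGroup s.downClass) s.downPrim h).srg (by norm_num))

end H88.Fischer
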